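import Mathlib.RingTheory.Etale.Kaehler
import Mathlib.RingTheory.Etale.Field
import Mathlib.RingTheory.DedekindDomain.PID
import Mathlib.RingTheory.DedekindDomain.Different
import Mathlib.RingTheory.Radical.Basic
import Mathlib.RingTheory.DiscreteValuationRing.Basic
import Mathlib.RingTheory.Trace.Quotient

/-!
# Derivations and the tame different

`A` a discrete valuation ring with residue field of characteristic zero, `L` a finite separable extension of its
fraction field, `B` the integral closure of `A` in `L`, `π = ρ * i` in `B` with `ρ` squarefree (`i` generates the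
different).

* `exists_ext`: a derivation `δ : A → B` with `i ∣ δ π` extends to `B → B`.
* `exists_generator`: a quotient of `Der(A, B) / Der(B, B)` is cyclic and killed by `i`.
-/

set_option autoImplicit false

open Polynomial

noncomputable section

namespace K835.DiffDer

universe u

section Poly

variable {A B : Type*} [CommRing A] [CommRing B] [Algebra A B]

/-- An element of `B` is a simple root modulo `q` of a polynomial with coefficients in `A`. -/
theorem exists_poly [IsLocalRing A] [CharZero (IsLocalRing.ResidueField A)] [Algebra.IsIntegral A B]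
    (q : Ideal B) [q.IsMaximal] (b : B) : ∃ g : A[X], aeval b g ∈ q ∧ aeval b (derivative g) ∉ q := by
  have hq : q.LiesOver (IsLocalRing.maximalIdeal A) := by
    constructor
    have : (q.under A).IsMaximal := Ideal.isMaximal_comap_of_isIntegral_of_isMaximal q
    exact (IsLocalRing.eq_maximalIdeal this).symm
  let _ : Field (A ⧸ IsLocalRing.maximalIdeal A) := inferInstanceAs (Field (IsLocalRing.ResidueField A))
  have hz : CharZero (A ⧸ IsLocalRing.maximalIdeal A) := inferInstanceAs (CharZero (IsLocalRing.ResidueField A))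
  let _ : Field (B ⧸ q) := Ideal.Quotient.field q
  have hint : Algebra.IsIntegral (A ⧸ IsLocalRing.maximalIdeal A) (B ⧸ q) := by
    constructor
    intro x
    obtain ⟨y, rfl⟩ := Ideal.Quotient.mk_surjective x
    have h1 : IsIntegral A (Ideal.Quotient.mk q y) := (Algebra.IsIntegral.isIntegral (R := A) y).map (Ideal.Quotient.mkₐ A q)
    exact h1.tower_top
  let x := Ideal.Quotient.mk q b
  let p := minpoly (A ⧸ IsLocalRing.maximalIdeal A) x
  have hx : IsIntegral (A ⧸ IsLocalRing.maximalIdeal A) x := Algebra.IsIntegral.isIntegral x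
  have hsep : p.Separable := (minpoly.irreducible hx).separable
  obtain ⟨g, hg⟩ := Polynomial.map_surjective (Ideal.Quotient.mk (IsLocalRing.maximalIdeal A)) Ideal.Quotient.mk_surjective p
  have key : ∀ h : A[X], Ideal.Quotient.mk q (aeval b h) =
      aeval x (h.map (Ideal.Quotient.mk (IsLocalRing.maximalIdeal A))) := by
    intro h
    have h1 : aeval x (h.map (algebraMap A (A ⧸ IsLocalRing.maximalIdeal A))) = aeval x h := aeval_map_algebraMap _ _ _
    have h2 : (Ideal.Quotient.mkₐ A q) (aeval b h) = aeval x h := (aeval_algHom_apply (Ideal.Quotient.mkₐ A q) b h).symm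
    exact h2.trans h1.symm
  refine ⟨g, ?_, ?_⟩
  · rw [← Ideal.Quotient.eq_zero_iff_mem, key, hg]
    exact minpoly.aeval _ _
  · rw [← Ideal.Quotient.eq_zero_iff_mem, key, ← derivative_map, hg]
    exact hsep.aeval_derivative_ne_zero (minpoly.aeval _ _)

/-- The derivative of a polynomial expression, up to derivatives of coefficients. -/
theorem der_aeval {k : Type*} [CommRing k] [Algebra k B] (δ : Derivation k B B) (q : Ideal B)
    (hA : ∀ a : A, δ (algebraMap A B a) ∈ q) (b : B) (g : A[X]) :
    δ (aeval b g) - aeval b (derivative g) * δ b ∈ q := by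
  induction g using Polynomial.induction_on' with
  | add p r hp hr =>
    have : δ (aeval b (p + r)) - aeval b (derivative (p + r)) * δ b =
        (δ (aeval b p) - aeval b (derivative p) * δ b) + (δ (aeval b r) - aeval b (derivative r) * δ b) := by
      rw [derivative_add, map_add, map_add, map_add]; ring
    rw [this]
    exact q.add_mem hp hr
  | monomial n a =>
    have h1 : δ (aeval b (monomial n a)) - aeval b (derivative (monomial n a)) * δ b =
        b ^ n * δ (algebraMap A B a) := by
      rw [aeval_monomial, derivative_monomial, aeval_monomial, Derivation.leibniz, Derivation.leibniz_pow]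
      simp only [map_mul, map_natCast, smul_eq_mul, nsmul_eq_mul]
      ring
    rw [h1]
    exact q.mul_mem_left _ (hA a)

end Poly

section Ext

variable {k A K L B : Type*} [CommRing k] [CommRing A] [IsDomain A] [Field K] [Field L] [CommRing B] [IsDomain B]
  [Algebra k A] [Algebra k B] [Algebra k L] [Algebra A K] [IsFractionRing A K] [Algebra K L] [Algebra A L]
  [IsScalarTower A K L] [Algebra A B] [Algebra B L] [IsScalarTower A B L] [IsFractionRing B L]
  [IsScalarTower k A B] [IsScalarTower k A L] [IsScalarTower k B L] [Algebra.IsSeparable K L]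

include K in
/-- Extension of derivations to the fraction field. -/
theorem exists_extL (δ : Derivation k A B) :
    ∃ D : Derivation k L L, ∀ a : A, D (algebraMap A L a) = algebraMap B L (δ a) := by
  have h1 : Algebra.FormallyEtale A K := Algebra.FormallyEtale.of_isLocalization (nonZeroDivisors A)
  have h2 : Algebra.FormallyEtale K L := Algebra.FormallyEtale.of_isSeparable K L
  have h3 : Algebra.FormallyEtale A L := Algebra.FormallyEtale.comp A K L
  have hbc := KaehlerDifferential.isBaseChange_of_formallyEtale k A L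
  let φ : Ω[A⁄k] →ₗ[A] L := (Algebra.linearMap B L).restrictScalars A ∘ₗ δ.liftKaehlerDifferential
  let ψ : Ω[L⁄k] →ₗ[L] L := hbc.lift φ
  refine ⟨ψ.compDer (KaehlerDifferential.D k L), fun a => ?_⟩
  change ψ (KaehlerDifferential.D k L (algebraMap A L a)) = _
  rw [← KaehlerDifferential.map_D k k A L, hbc.lift_eq]
  change algebraMap B L (δ.liftKaehlerDifferential (KaehlerDifferential.D k A a)) = _
  rw [Derivation.liftKaehlerDifferential_comp_D]

variable [IsPrincipalIdealRing B] [IsLocalRing A] [CharZero (IsLocalRing.ResidueField A)] [Module.Finite A B]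

/-- Every nonzero maximal ideal of `B` contains the uniformizer. -/
theorem dvd_of_prime {π : A} (hπ : π ∈ IsLocalRing.maximalIdeal A) {p : B} (hp : Prime p) :
    p ∣ algebraMap A B π := by
  have h1 : (Ideal.span {p}).IsPrime := (Ideal.span_singleton_prime hp.ne_zero).2 hp
  have h2 : (Ideal.span {p}).IsMaximal := IsPrime.to_maximal_ideal (by
    rw [Ne, Ideal.span_singleton_eq_bot]; exact hp.ne_zero)
  have : Algebra.IsIntegral A B := inferInstance
  have h3 : ((Ideal.span {p}).under A).IsMaximal := Ideal.isMaximal_comap_of_isIntegral_of_isMaximal _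
  have h4 := IsLocalRing.eq_maximalIdeal h3
  rw [← h4] at hπ
  exact Ideal.mem_span_singleton.1 hπ

include K L in
/-- A derivation `δ : A → B` with `i ∣ δ π` extends to `B`, where `π = ρ i` with `ρ` squarefree. -/
theorem exists_ext {π : A} (hπ0 : π ≠ 0) (hπ : π ∈ IsLocalRing.maximalIdeal A) {ρ i : B} (hρ : Squarefree ρ)
    (hρi : algebraMap A B π = ρ * i) (δ : Derivation k A B) (hδ : i ∣ δ π) :
    ∃ D : Derivation k B B, ∀ a : A, D (algebraMap A B a) = δ a := by
  obtain ⟨D, hD⟩ := exists_extL (K := K) (L := L) δ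
  have hinj : Function.Injective (algebraMap B L) := IsFractionRing.injective B L
  have hAB : Function.Injective (algebraMap A B) := by
    have h1 : Function.Injective (algebraMap A L) := by
      rw [IsScalarTower.algebraMap_eq A K L]
      exact (algebraMap K L).injective.comp (IsFractionRing.injective A K)
    rw [IsScalarTower.algebraMap_eq A B L] at h1
    exact Function.Injective.of_comp h1
  -- the ideal of denominators
  let C : Ideal B :=
    { carrier := {c | ∀ b : B, ∃ y : B, algebraMap B L y = algebraMap B L c * D (algebraMap B L b)}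
      add_mem' := by
        intro c d hc hd b
        obtain ⟨y, hy⟩ := hc b
        obtain ⟨z, hz⟩ := hd b
        exact ⟨y + z, by rw [map_add, hy, hz, map_add]; ring⟩
      zero_mem' := fun b => ⟨0, by simp⟩
      smul_mem' := by
        intro c d hd b
        obtain ⟨z, hz⟩ := hd b
        exact ⟨c * z, by rw [smul_eq_mul, map_mul, hz, map_mul]; ring⟩ }
  have hC0 : ∃ s ∈ C, s ≠ 0 := by
    classical
    obtain ⟨S, hS⟩ := (Module.Finite.fg_top : (⊤ : Submodule A B).FG)
    obtain ⟨s, hs⟩ := IsLocalization.exist_integer_multiples_of_finset (nonZeroDivisors B) (S.image fun b => D (algebraMap B L b))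
    refine ⟨s, fun b => ?_, nonZeroDivisors.coe_ne_zero s⟩
    have hb : b ∈ Submodule.span A (S : Set B) := by rw [hS]; trivial
    induction hb using Submodule.span_induction with
    | mem x hx =>
      obtain ⟨y, hy⟩ := hs (D (algebraMap B L x)) (Finset.mem_image_of_mem _ hx)
      exact ⟨y, by rw [hy, Algebra.smul_def]⟩
    | zero => exact ⟨0, by simp⟩
    | add x y _ _ hx hy =>
      obtain ⟨a, ha⟩ := hx
      obtain ⟨b, hb⟩ := hy
      exact ⟨a + b, by rw [map_add, ha, hb, map_add, map_add]; ring⟩
    | smul a x _ hx =>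
      obtain ⟨y, hy⟩ := hx
      refine ⟨(s : B) * (δ a * x) + algebraMap A B a * y, ?_⟩
      rw [map_add, map_mul, map_mul, map_mul, hy, Algebra.smul_def, map_mul, ← IsScalarTower.algebraMap_apply A B L,
        Derivation.leibniz, hD, smul_eq_mul, smul_eq_mul]
      ring
  obtain ⟨c, hc⟩ := (IsPrincipalIdealRing.principal C).principal
  have hcC : c ∈ C := by rw [hc]; exact Submodule.mem_span_singleton_self c
  have hc0 : c ≠ 0 := by
    rintro rfl
    obtain ⟨s, hs, hs0⟩ := hC0
    rw [hc, Submodule.span_zero_singleton] at hs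
    exact hs0 hs
  choose f hf using hcC
  -- the derivation `c D` of `B`
  let δ' : Derivation k B B :=
    { toFun := f
      map_add' := fun x y => hinj (by rw [map_add, hf, hf, hf, map_add, map_add]; ring)
      map_smul' := fun r x => hinj (by
        have h1 : ∀ y : B, algebraMap B L (r • y) = r • algebraMap B L y := fun y =>
          map_smul (IsScalarTower.toAlgHom k B L) r y
        rw [RingHom.id_apply, hf, h1, h1, hf, Derivation.map_smul, mul_smul_comm])
      map_one_eq_zero' := hinj (by
        change algebraMap B L (f 1) = _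
        rw [hf, map_one, Derivation.map_one_eq_zero, mul_zero, map_zero])
      leibniz' := fun x y => hinj (by
        change algebraMap B L (f (x * y)) = algebraMap B L (x • f y + y • f x)
        rw [hf, map_mul, Derivation.leibniz, smul_eq_mul, smul_eq_mul, map_add, smul_eq_mul, smul_eq_mul, map_mul,
          map_mul, hf, hf]
        ring) }
  have hδ' : ∀ b, algebraMap B L (δ' b) = algebraMap B L c * D (algebraMap B L b) := hf
  have hδA : ∀ a : A, δ' (algebraMap A B a) = c * δ a := fun a => hinj (by
    rw [hδ', ← IsScalarTower.algebraMap_apply A B L, hD, map_mul])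
  by_cases hu : IsUnit c
  · obtain ⟨v, hv⟩ := hu.exists_left_inv
    refine ⟨v • δ', fun a => ?_⟩
    rw [Derivation.smul_apply, hδA, smul_eq_mul, ← mul_assoc, hv, one_mul]
  exfalso
  obtain ⟨p, hpi, hpc⟩ := WfDvdMonoid.exists_irreducible_factor hu hc0
  have hp : Prime p := hpi.prime
  let q : Ideal B := Ideal.span {p}
  have hqp : q.IsPrime := (Ideal.span_singleton_prime hp.ne_zero).2 hp
  have hqm : q.IsMaximal := IsPrime.to_maximal_ideal (by
    rw [Ne, Ideal.span_singleton_eq_bot]; exact hp.ne_zero)
  have hmem : ∀ x, x ∈ q ↔ p ∣ x := fun x => Ideal.mem_span_singleton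
  have hAq : ∀ a : A, δ' (algebraMap A B a) ∈ q := fun a => by
    rw [hδA, hmem]
    exact hpc.mul_right _
  have hne : ∃ b, ¬ p ∣ δ' b := by
    by_contra hcon
    push Not at hcon
    obtain ⟨d, rfl⟩ := hpc
    have hd : d ∈ C := fun b => by
      obtain ⟨y, hy⟩ := hcon b
      refine ⟨y, ?_⟩
      have h1 := hδ' b
      rw [hy, map_mul, map_mul, mul_assoc] at h1
      exact mul_left_cancel₀ ((map_ne_zero_iff _ hinj).2 hp.ne_zero) h1
    rw [hc, Submodule.mem_span_singleton] at hd
    obtain ⟨r, hr⟩ := hd
    have hd0 : d ≠ 0 := right_ne_zero_of_mul hc0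
    have h2 : r * p = 1 := by
      apply mul_right_cancel₀ hd0
      rw [one_mul, mul_assoc]
      exact hr
    exact hp.not_isUnit (IsUnit.of_mul_eq_one_right r h2)
  have hpδ : ¬ p ∣ δ' p := by
    intro hcon
    obtain ⟨b, hb⟩ := hne
    obtain ⟨g, hg1, hg2⟩ := exists_poly (A := A) q b
    have h1 := der_aeval δ' q hAq b g
    have h2 : δ' (aeval b g) ∈ q := by
      obtain ⟨z, hz⟩ := (hmem _).1 hg1
      rw [hz, Derivation.leibniz, hmem, smul_eq_mul, smul_eq_mul]
      exact dvd_add (dvd_mul_right _ _) (hcon.mul_left _)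
    have h3 : aeval b (derivative g) * δ' b ∈ q := by
      have := q.sub_mem h2 h1
      rwa [sub_sub_cancel] at this
    rcases hqp.mem_or_mem h3 with h4 | h4
    · exact hg2 h4
    · exact hb ((hmem _).1 h4)
  -- the multiplicity of `p` in `π`
  have hπB : algebraMap A B π ≠ 0 := (map_ne_zero_iff _ hAB).2 hπ0
  have hfin : FiniteMultiplicity p (algebraMap A B π) := FiniteMultiplicity.of_prime_left hp hπB
  obtain ⟨u, hu1, hu2⟩ := hfin.exists_eq_pow_mul_and_not_dvd
  have hpos : multiplicity p (algebraMap A B π) ≠ 0 := by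
    intro h0
    rw [h0, pow_zero, one_mul] at hu1
    rw [← hu1] at hu2
    exact hu2 (dvd_of_prime hπ hp)
  obtain ⟨e, he⟩ := Nat.exists_eq_succ_of_ne_zero hpos
  rw [he] at hu1
  have hei : p ^ e ∣ i := by
    have h1 : p ^ (e + 1) ∣ ρ * i := by rw [← hρi, hu1]; exact dvd_mul_right _ _
    by_cases hpρ : p ∣ ρ
    · obtain ⟨ρ', rfl⟩ := hpρ
      have h2 : ¬ p ∣ ρ' := by
        intro h3
        obtain ⟨ρ'', rfl⟩ := h3
        have h4 := hρ p ⟨ρ'', by ring⟩
        exact hp.not_isUnit h4
      have h3 : p ^ e ∣ ρ' * i := by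
        have h5 : p * p ^ e ∣ p * (ρ' * i) := by rw [← pow_succ', ← mul_assoc]; exact h1
        exact (mul_dvd_mul_iff_left hp.ne_zero).1 h5
      exact hp.pow_dvd_of_dvd_mul_left e h2 h3
    · exact (pow_dvd_pow p (Nat.le_succ e)).trans (hp.pow_dvd_of_dvd_mul_left _ hpρ h1)
  have hd1 : p ^ (e + 1) ∣ δ' (algebraMap A B π) := by
    rw [hδA, pow_succ']
    exact mul_dvd_mul hpc (hei.trans hδ)
  rw [hu1, Derivation.leibniz, Derivation.leibniz_pow, Nat.succ_eq_add_one, Nat.add_sub_cancel] at hd1
  simp only [smul_eq_mul, nsmul_eq_mul] at hd1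
  have hd2 : p ^ (e + 1) ∣ u * (((e + 1 : ℕ) : B) * (p ^ e * δ' p)) := (dvd_add_right (dvd_mul_right _ _)).1 hd1
  have hd3 : p ∣ u * (((e + 1 : ℕ) : B) * δ' p) := by
    have h5 : p ^ e * p ∣ p ^ e * (u * (((e + 1 : ℕ) : B) * δ' p)) := by
      rw [← pow_succ]
      convert hd2 using 1
      ring
    exact (mul_dvd_mul_iff_left (pow_ne_zero e hp.ne_zero)).1 h5
  rcases hp.dvd_or_dvd hd3 with h6 | h6
  · exact hu2 h6
  rcases hp.dvd_or_dvd h6 with h7 | h7
  · have h8 : ((e + 1 : ℕ) : B) ∈ q := (hmem _).2 h7
    have h9 : ((e + 1 : ℕ) : A) ∈ q.under A := by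
      change algebraMap A B _ ∈ q
      rwa [map_natCast]
    have h10 : (q.under A).IsMaximal := Ideal.isMaximal_comap_of_isIntegral_of_isMaximal q
    rw [IsLocalRing.eq_maximalIdeal h10] at h9
    have h11 : ((e + 1 : ℕ) : IsLocalRing.ResidueField A) = 0 := by
      have := (IsLocalRing.residue_eq_zero_iff _).2 h9
      rwa [map_natCast] at this
    exact Nat.cast_ne_zero.2 (Nat.succ_ne_zero e) h11
  · exact hpδ h7

include K L in
/-- A quotient of `Der(A, B) / Der(B, B)` is cyclic and killed by `i`, where `π = ρ i`, `ρ` squarefree. -/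
theorem exists_generator {π : A} (hπ0 : π ≠ 0) (hπ : π ∈ IsLocalRing.maximalIdeal A) {ρ i : B} (hρ : Squarefree ρ)
    (hρi : algebraMap A B π = ρ * i) {T : Type*} [AddCommGroup T] [Module B T] (Ψ : Derivation k A B →ₗ[B] T)
    (hΨ : Function.Surjective Ψ) (hkill : ∀ D : Derivation k B B, Ψ (D.compAlgebraMap A) = 0) :
    ∃ t : T, Submodule.span B {t} = ⊤ ∧ i • t = 0 := by
  have hker : ∀ δ : Derivation k A B, i ∣ δ π → Ψ δ = 0 := by
    intro δ hδ
    obtain ⟨D, hD⟩ := exists_ext (K := K) (L := L) hπ0 hπ hρ hρi δ hδ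
    have h1 : D.compAlgebraMap A = δ := Derivation.ext fun a => hD a
    rw [← h1]
    exact hkill D
  let ev : Derivation k A B →ₗ[B] B :=
    { toFun := fun δ => δ π
      map_add' := fun _ _ => rfl
      map_smul' := fun _ _ => rfl }
  obtain ⟨j, hj⟩ := (IsPrincipalIdealRing.principal (LinearMap.range ev ⊔ Ideal.span {i})).principal
  have hjmem : j ∈ LinearMap.range ev ⊔ Ideal.span {i} := by
    rw [hj]; exact Submodule.mem_span_singleton_self j
  obtain ⟨_, ⟨δ₀, rfl⟩, y, hy, hsum⟩ := Submodule.mem_sup.1 hjmem
  obtain ⟨b, rfl⟩ := Ideal.mem_span_singleton.1 hy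
  refine ⟨Ψ δ₀, ?_, ?_⟩
  · rw [eq_top_iff]
    rintro x -
    obtain ⟨δ, rfl⟩ := hΨ x
    have h1 : ev δ ∈ LinearMap.range ev ⊔ Ideal.span {i} := Submodule.mem_sup_left ⟨δ, rfl⟩
    rw [hj, Submodule.mem_span_singleton] at h1
    obtain ⟨r, hr⟩ := h1
    rw [Submodule.mem_span_singleton]
    refine ⟨r, ?_⟩
    have h2 : Ψ (δ - r • δ₀) = 0 := hker _ ⟨r * b, by
      change ev (δ - r • δ₀) = _
      rw [map_sub, map_smul, ← hr, ← hsum, smul_eq_mul, smul_eq_mul]
      ring⟩
    rw [map_sub, map_smul, sub_eq_zero] at h2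
    exact h2.symm
  · rw [← map_smul]
    exact hker _ (dvd_mul_right _ _)

end Ext

section Det

variable {B : Type*} [CommRing B]

/-- If the cokernel of a square matrix is cyclic and killed by `i` then `det ∣ i`. -/
theorem det_dvd {n : Type*} [Fintype n] [DecidableEq n] (M : Matrix n n B) {T : Type*} [AddCommGroup T] [Module B T]
    (f : (n → B) →ₗ[B] T) (hf : Function.Surjective f) (hM : LinearMap.ker f = LinearMap.range M.mulVecLin)
    {t : T} (ht : Submodule.span B {t} = ⊤) {i : B} (hi : i • t = 0) : M.det ∣ i := by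
  have h1 : ∀ j : n, ∃ a : B, a • t = f (Pi.single j 1) := fun j => by
    have : f (Pi.single j 1) ∈ Submodule.span B {t} := by rw [ht]; trivial
    exact Submodule.mem_span_singleton.1 this
  choose a ha using h1
  obtain ⟨v, hv⟩ := hf t
  have h2 : ∀ j : n, ∃ w : n → B, M.mulVec w = Pi.single j 1 - a j • v := fun j => by
    have : Pi.single j 1 - a j • v ∈ LinearMap.ker f := by
      rw [LinearMap.mem_ker, map_sub, map_smul, hv, ha, sub_self]
    rw [hM] at this
    exact this
  choose W hW using h2
  obtain ⟨w, hw⟩ : ∃ w : n → B, M.mulVec w = i • v := by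
    have : i • v ∈ LinearMap.ker f := by rw [LinearMap.mem_ker, map_smul, hv, hi]
    rw [hM] at this
    exact this
  let V : Matrix n Unit B := fun j _ => v j
  let W' : Matrix n n B := fun j l => W l j
  let w' : Matrix n Unit B := fun j _ => w j
  let a' : Matrix Unit n B := fun _ j => a j
  have h3 : Matrix.fromBlocks M V 0 (-1) * Matrix.fromBlocks W' w' a' (-(i • (1 : Matrix Unit Unit B))) =
      Matrix.fromBlocks 1 0 (-a') (i • (1 : Matrix Unit Unit B)) := by
    rw [Matrix.fromBlocks_multiply]
    congr 1
    · ext j l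
      have h4 := congrFun (hW l) j
      rw [Matrix.add_apply, Matrix.mul_apply, Matrix.mul_apply, Matrix.one_apply]
      simp only [V, W', a', Fintype.sum_unique]
      change (∑ x, M j x * W l x) + v j * a l = _
      have h5 : (∑ x, M j x * W l x) = (Pi.single l 1 : n → B) j - a l * v j := h4
      rw [h5, Pi.single_apply]
      ring
    · ext j l
      have h4 := congrFun hw j
      rw [Matrix.add_apply, Matrix.mul_apply, Matrix.mul_apply]
      simp only [V, w', Fintype.sum_unique]
      change (∑ x, M j x * w x) + v j * (-(i • (1 : Matrix Unit Unit B))) default l = _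
      have h5 : (∑ x, M j x * w x) = i * v j := h4
      rw [h5]
      simp
      ring
    · ext j l
      simp
    · ext j l
      simp
  have h6 := congrArg Matrix.det h3
  rw [Matrix.det_mul, Matrix.det_fromBlocks_zero₂₁, Matrix.det_fromBlocks_zero₁₂, Matrix.det_one, one_mul] at h6
  have h7 : (i • (1 : Matrix Unit Unit B)).det = i := by simp
  rw [h7, mul_assoc] at h6
  exact ⟨_, h6.symm⟩

end Det

section Trace

variable {A K L B : Type*} [CommRing A] [IsDomain A] [IsPrincipalIdealRing A] [IsLocalRing A] [Field K] [Field L]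
  [CommRing B] [IsDomain B] [IsPrincipalIdealRing B] [Algebra A K] [IsFractionRing A K] [Algebra K L] [Algebra A L]
  [IsScalarTower A K L] [FiniteDimensional K L] [Algebra A B] [Algebra B L] [IsScalarTower A B L]
  [IsFractionRing B L] [Module.Finite A B]

/-- The trace of `x / T` is integral if `T ∣ i`, where `π = ρ i` and `ρ` lies in the radical. -/
theorem trace_mem {π : A} (hπ0 : π ≠ 0) (hπ : IsLocalRing.maximalIdeal A = Ideal.span {π}) {ρ i T : B}
    (hρi : algebraMap A B π = ρ * i) {N : ℕ} (hN : algebraMap A B π ∣ ρ ^ N) (hT : T ∣ i) (x : B) :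
    ∃ a : A, algebraMap A K a = Algebra.trace K L (algebraMap B L x / algebraMap B L T) := by
  have hinjA : Function.Injective (algebraMap A K) := IsFractionRing.injective A K
  have hinj : Function.Injective (algebraMap B L) := IsFractionRing.injective B L
  have hAL : Function.Injective (algebraMap A L) := by
    rw [IsScalarTower.algebraMap_eq A K L]
    exact (algebraMap K L).injective.comp hinjA
  have hAB : Function.Injective (algebraMap A B) := by
    rw [IsScalarTower.algebraMap_eq A B L] at hAL
    exact Function.Injective.of_comp hAL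
  have htf : Module.IsTorsionFree A B := by
    have : FaithfulSMul A B := (faithfulSMul_iff_algebraMap_injective A B).2 hAB
    infer_instance
  have hfree : Module.Free A B := inferInstance
  obtain ⟨w, rfl⟩ := hT
  let y : B := ρ * w * x
  have hπB : algebraMap A B π ≠ 0 := (map_ne_zero_iff _ hAB).2 hπ0
  have hT0 : algebraMap B L T ≠ 0 := by
    rw [Ne, map_eq_zero_iff _ hinj]
    rintro rfl
    rw [zero_mul, mul_zero] at hρi
    exact hπB hρi
  have hy : algebraMap B L y = algebraMap K L (algebraMap A K π) * (algebraMap B L x / algebraMap B L T) := by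
    rw [← IsScalarTower.algebraMap_apply A K L, IsScalarTower.algebraMap_apply A B L, hρi]
    simp only [y, map_mul]
    field_simp
  have : IsIntegralClosure B A L := IsIntegralClosure.of_isIntegrallyClosed _ _ _
  have h1 : algebraMap A K (Algebra.trace A B y) = Algebra.trace K L (algebraMap B L y) := by
    rw [← Algebra.intTrace_eq_trace]
    exact Algebra.algebraMap_intTrace y
  have h2 : Algebra.trace A B y ∈ Ideal.span {π} := by
    let _ : Field (A ⧸ IsLocalRing.maximalIdeal A) := Ideal.Quotient.field _
    rw [← hπ, ← Ideal.Quotient.eq_zero_iff_mem, ← Algebra.trace_quotient_mk]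
    refine (Algebra.isNilpotent_trace_of_isNilpotent ⟨N, ?_⟩).eq_zero
    rw [← map_pow, Ideal.Quotient.eq_zero_iff_mem, hπ, Ideal.map_span, Set.image_singleton, Ideal.mem_span_singleton]
    refine hN.trans ?_
    simp only [y, mul_pow, mul_assoc]
    exact dvd_mul_right _ _
  obtain ⟨a, ha⟩ := Ideal.mem_span_singleton.1 h2
  refine ⟨a, ?_⟩
  have hπK : algebraMap A K π ≠ 0 := (map_ne_zero_iff _ hinjA).2 hπ0
  apply mul_left_cancel₀ hπK
  rw [← map_mul, ← ha, h1, hy, ← Algebra.smul_def, map_smul, smul_eq_mul]

end Trace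

end K835.DiffDer
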